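import Mathlib.Order.RelSeries
import Mathlib.Order.Cover
import Mathlib.Data.ENat.Lattice
import Mathlib.Order.KrullDimension
import Mathlib.Tactic.Ring
import Mathlib.Tactic.Linarith

/-!
# Codimension and catenarity in a partial order

`pc a b` is the supremum of the lengths of chains from `a` to an element `≤ b`; `CatAt a b` says that
it is finite and that every saturated chain from `a` to `b` has this length.
-/

set_option autoImplicit false
universe u v

namespace K417.CatOrder

variable {P : Type u} [PartialOrder P]

/-- Supremum of the lengths of chains from `a` to an element `≤ b`. -/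
noncomputable def pc (a b : P) : ℕ∞ :=
  ⨆ (s : LTSeries P) (_ : s.head = a ∧ s.last ≤ b), (s.length : ℕ∞)

/-- Saturated chains. -/
def Sat (s : LTSeries P) : Prop := ∀ i : Fin s.length, s (Fin.castSucc i) ⋖ s (Fin.succ i)

/-- Catenarity of the interval from `a` to `b`. -/
def CatAt (a b : P) : Prop :=
  pc a b ≠ ⊤ ∧ ∀ s : LTSeries P, s.head = a → s.last = b → Sat s → (s.length : ℕ∞) = pc a b

/-- A chain gives a lower bound. -/
theorem length_le_pc {a b : P} (s : LTSeries P) (h : s.head = a) (h' : s.last ≤ b) :
    (s.length : ℕ∞) ≤ pc a b :=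
  le_iSup₂_of_le s ⟨h, h'⟩ le_rfl

theorem pc_le {a b : P} {n : ℕ∞} (h : ∀ s : LTSeries P, s.head = a → s.last ≤ b → (s.length : ℕ∞) ≤ n) :
    pc a b ≤ n :=
  iSup₂_le fun s hs => h s hs.1 hs.2

/-- Saturated chains as series for the covering relation. -/
abbrev CSeries (P : Type u) [PartialOrder P] := RelSeries {(a, b) : P × P | a ⋖ b}

/-- A saturated chain as a chain. -/
def CSeries.toLT (s : CSeries P) : LTSeries P where
  length := s.length
  toFun := s.toFun
  step i := CovBy.lt (s.step i)

theorem CSeries.sat (s : CSeries P) : Sat s.toLT := s.step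

/-- A chain which is saturated. -/
def ofSat (s : LTSeries P) (h : Sat s) : CSeries P where
  length := s.length
  toFun := s.toFun
  step := h

/-- If the codimension is finite, there is a saturated chain computing it. -/
theorem exists_max {a b : P} (hab : a ≤ b) (h : pc a b ≠ ⊤) :
    ∃ s : CSeries P, s.head = a ∧ s.last = b ∧ (s.length : ℕ∞) = pc a b := by
  classical
  -- a chain with maximal length
  obtain ⟨n, hn⟩ := ENat.ne_top_iff_exists.mp h
  have hS : ∃ s : LTSeries P, s.head = a ∧ s.last ≤ b ∧ s.length = n := by
    by_contra hcon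
    push Not at hcon
    have hle : ∀ s : LTSeries P, s.head = a → s.last ≤ b → s.length ≤ n := by
      intro s hs hs'
      have := length_le_pc s hs hs'
      rw [← hn] at this
      exact_mod_cast this
    have hlt : ∀ s : LTSeries P, s.head = a → s.last ≤ b → s.length < n := fun s hs hs' =>
      lt_of_le_of_ne (hle s hs hs') (hcon s hs hs')
    have h0 : 0 < n := hlt (RelSeries.singleton _ a) rfl hab |>.trans_le' (Nat.zero_le _)
    have : pc a b ≤ ((n - 1 : ℕ) : ℕ∞) := pc_le fun s hs hs' => by
      have := hlt s hs hs'
      exact_mod_cast (by omega : s.length ≤ n - 1)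
    rw [← hn] at this
    have h2 : n ≤ n - 1 := by exact_mod_cast this
    omega
  obtain ⟨s, hs1, hs2, hs3⟩ := hS
  have hmax : ∀ t : LTSeries P, t.head = a → t.last ≤ b → t.length ≤ s.length := by
    intro t ht ht'
    have := length_le_pc t ht ht'
    rw [← hn, ← hs3] at this
    exact_mod_cast this
  have hlast : s.last = b := by
    by_contra hne
    have hlt : s.last < b := lt_of_le_of_ne hs2 hne
    have := hmax (s.snoc b hlt) (by simpa using hs1) (by simp)
    simp at this
  have hsat : Sat s := by
    intro i
    refine ⟨s.step i, ?_⟩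
    intro w hw1 hw2
    have e1 : (s.take (Fin.castSucc i)).last < w := by
      rw [RelSeries.last_take]; exact hw1
    have e2 : ((s.take (Fin.castSucc i)).snoc w e1).last < (s.drop (Fin.succ i)).head := by
      rw [RelSeries.last_snoc, RelSeries.head_drop]; exact hw2
    have h3 := hmax (RelSeries.append ((s.take (Fin.castSucc i)).snoc w e1) (s.drop (Fin.succ i)) e2)
      (by
        rw [RelSeries.head_append, RelSeries.head_snoc, RelSeries.head_take]
        exact hs1)
      (by
        rw [RelSeries.last_append, RelSeries.last_drop]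
        exact hs2)
    rw [RelSeries.append_length, RelSeries.snoc_length, RelSeries.take_length, RelSeries.drop_length] at h3
    have h4 := i.2
    simp only [Fin.val_castSucc, Fin.val_succ] at h3
    omega
  exact ⟨ofSat s hsat, hs1, hlast, by rw [← hn, ← hs3]; rfl⟩

theorem pc_self (a : P) : pc a a = 0 := by
  rw [← nonpos_iff_eq_zero]
  refine pc_le fun s hs hs' => ?_
  by_contra h
  have h1 : s.length ≠ 0 := by
    intro h'
    apply h
    rw [h']
    simp
  have h2 : s.head < s.last := by
    have := s.strictMono (show (0 : Fin (s.length + 1)) < Fin.last _ from by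
      rw [Fin.lt_def]
      simp
      omega)
    exact this
  exact absurd (h2.trans_le hs') (by rw [hs]; exact lt_irrefl _)

theorem pc_covBy {a b : P} (h : a ⋖ b) : pc a b = 1 := by
  apply le_antisymm
  · refine pc_le fun s hs hs' => ?_
    by_contra hcon
    have h1 : 2 ≤ s.length := by
      by_contra h'
      apply hcon
      exact_mod_cast (by omega : s.length ≤ 1)
    have e0 : s.toFun ⟨0, by omega⟩ = a := hs
    have e1 : s.toFun ⟨0, by omega⟩ < s.toFun ⟨1, by omega⟩ := s.strictMono (by rw [Fin.lt_def]; simp)
    have e2 : s.toFun ⟨1, by omega⟩ < s.toFun ⟨2, by omega⟩ := s.strictMono (by rw [Fin.lt_def]; simp)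
    have e3 : s.toFun ⟨2, by omega⟩ ≤ s.last := s.strictMono.monotone (Fin.le_last _)
    rw [e0] at e1
    exact h.2 e1 (e2.trans_le (e3.trans hs'))
  · have hr : ((RelSeries.singleton {(a, b) : P × P | a < b} a).last, b) ∈ {(a, b) : P × P | a < b} := h.lt
    have := length_le_pc (a := a) (b := b) ((RelSeries.singleton _ a).snoc b hr)
      (by rw [RelSeries.head_snoc]; rfl) (by rw [RelSeries.last_snoc])
    rw [RelSeries.snoc_length] at this
    exact this

theorem pc_add_le {a b c : P} (hab : a ≤ b) (hbc : b ≤ c) : pc a b + pc b c ≤ pc a c := by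
  by_cases h : pc a c = ⊤
  · rw [h]; exact le_top
  have h1 : pc a b ≠ ⊤ := fun h1 => h (top_le_iff.mp (h1 ▸ pc_le fun s hs hs' =>
    length_le_pc s hs (hs'.trans hbc)))
  have h2 : pc b c ≠ ⊤ := by
    intro h2
    apply h
    rw [← top_le_iff, ← h2]
    refine pc_le fun s hs hs' => ?_
    rcases hab.eq_or_lt with rfl | hlt
    · exact length_le_pc s hs hs'
    · refine le_trans ?_ (length_le_pc (a := a) (s.cons a (by rw [hs]; exact hlt)) (by simp) (by simpa using hs'))
      simp
  obtain ⟨s, hs1, hs2, hs3⟩ := exists_max hab h1
  obtain ⟨t, ht1, ht2, ht3⟩ := exists_max hbc h2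
  have hst : s.toLT.last = t.toLT.head := hs2.trans ht1.symm
  have := length_le_pc (a := a) (b := c) (RelSeries.smash s.toLT t.toLT hst)
    (by rw [RelSeries.head_smash]; exact hs1) (by rw [RelSeries.last_smash]; exact ht2.le)
  rw [← hs3, ← ht3]
  rw [RelSeries.smash_length] at this
  push_cast at this
  exact this

theorem CSeries.head_le_last (s : CSeries P) : s.head ≤ s.last :=
  s.toLT.strictMono.monotone (Fin.zero_le _)

/-- A poset is catenary iff codimensions are finite and additive. -/
theorem catAt_iff_additive :
    (∀ a b : P, a ≤ b → CatAt a b) ↔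
      (∀ a b : P, a ≤ b → pc a b ≠ ⊤) ∧
      (∀ a b c : P, a ≤ b → b ≤ c → pc a c = pc a b + pc b c) := by
  constructor
  · intro h
    refine ⟨fun a b hab => (h a b hab).1, fun a b c hab hbc => ?_⟩
    obtain ⟨s, hs1, hs2, hs3⟩ := exists_max hab (h a b hab).1
    obtain ⟨t, ht1, ht2, ht3⟩ := exists_max hbc (h b c hbc).1
    have := (h a c (hab.trans hbc)).2 (CSeries.toLT (RelSeries.smash s t (hs2.trans ht1.symm)))
      (by
        have := RelSeries.head_smash (p := s) (q := t) (hs2.trans ht1.symm)
        exact this.trans hs1)
      (by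
        have := RelSeries.last_smash (p := s) (q := t) (hs2.trans ht1.symm)
        exact this.trans ht2) (CSeries.sat _)
    rw [← this, ← hs3, ← ht3]
    change ((s.length + t.length : ℕ) : ℕ∞) = _
    push_cast
    rfl
  · rintro ⟨h1, h2⟩ a b hab
    refine ⟨h1 a b hab, ?_⟩
    have key : ∀ s : CSeries P, (s.length : ℕ∞) = pc s.head s.last := by
      intro s
      induction s using RelSeries.inductionOn with
      | singleton x => simp [pc_self]
      | cons p x hx hp =>
        rw [RelSeries.head_cons, RelSeries.last_cons, RelSeries.cons_length,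
          h2 x p.head p.last (CovBy.le hx) (CSeries.head_le_last p), ← hp, pc_covBy hx]
        push_cast
        exact add_comm _ _
    intro s hs hs' hsat
    have := key (ofSat s hsat)
    rw [← hs, ← hs']
    exact this

/-- A strictly monotone integer valued function increasing by one along covers forces catenarity and
computes codimensions. -/
theorem of_dim {D : P → ℤ} (hD : StrictMono D) (hD' : ∀ a b : P, a ⋖ b → D b = D a + 1)
    {a b : P} (hab : a ≤ b) : CatAt a b ∧ pc a b = ((D b - D a).toNat : ℕ∞) := by
  have h1 : ∀ s : LTSeries P, (s.length : ℤ) ≤ D s.last - D s.head := by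
    intro s
    induction s using RelSeries.inductionOn with
    | singleton x => simp
    | cons p x hx hp =>
      rw [RelSeries.head_cons, RelSeries.last_cons, RelSeries.cons_length]
      have : D x < D p.head := hD hx
      push_cast
      linarith
  have h2 : ∀ s : CSeries P, (s.length : ℤ) = D s.last - D s.head := by
    intro s
    induction s using RelSeries.inductionOn with
    | singleton x => simp
    | cons p x hx hp =>
      rw [RelSeries.head_cons, RelSeries.last_cons, RelSeries.cons_length]
      have : D p.head = D x + 1 := hD' _ _ hx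
      push_cast
      linarith
  have h3 : pc a b ≤ ((D b - D a).toNat : ℕ∞) := pc_le fun s hs hs' => by
    have e1 := h1 s
    have e2 : D s.last ≤ D b := hD.monotone hs'
    rw [hs] at e1
    have : s.length ≤ (D b - D a).toNat := by omega
    exact_mod_cast this
  have h4 : pc a b ≠ ⊤ := fun h => by
    rw [h] at h3
    exact absurd (top_le_iff.mp h3) (ENat.coe_ne_top _)
  have h5 : pc a b = ((D b - D a).toNat : ℕ∞) := by
    obtain ⟨s, hs1, hs2, hs3⟩ := exists_max hab h4
    rw [← hs3]
    have := h2 s
    rw [hs1, hs2] at this
    have : s.length = (D b - D a).toNat := by omega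
    rw [this]
  refine ⟨⟨h4, ?_⟩, h5⟩
  intro s hs hs' hsat
  have e : ((ofSat s hsat).length : ℤ) = D (ofSat s hsat).last - D (ofSat s hsat).head := h2 _
  have e1 : (ofSat s hsat).last = b := hs'
  have e2 : (ofSat s hsat).head = a := hs
  rw [e1, e2] at e
  have e3 : (ofSat s hsat).length = s.length := rfl
  rw [e3] at e
  rw [h5]
  have : s.length = (D b - D a).toNat := by omega
  rw [this]

section Embedding

variable {Q : Type v} [PartialOrder Q]

/-- Lifting of a chain along an order embedding. -/
theorem exists_lift (j : P ↪o Q) (s : LTSeries Q) (h : ∀ i, s i ∈ Set.range j) :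
    ∃ t : LTSeries P, t.length = s.length ∧ j t.head = s.head ∧ j t.last = s.last := by
  choose f hf using h
  refine ⟨⟨s.length, f, fun i => ?_⟩, rfl, ?_, ?_⟩
  · have := s.step i
    change s.toFun _ < s.toFun _ at this
    rw [← hf, ← hf, j.lt_iff_lt] at this
    exact this
  · exact hf _
  · exact hf _

theorem mem_interval (s : LTSeries Q) {b : Q} (h : s.last ≤ b) (i : Fin (s.length + 1)) :
    s.head ≤ s i ∧ s i ≤ b :=
  ⟨s.strictMono.monotone (Fin.zero_le _), (s.strictMono.monotone (Fin.le_last _)).trans h⟩

/-- An order embedding which is surjective on an interval preserves codimensions. -/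
theorem pc_eq_of_embedding (j : P ↪o Q) {a b : P} (h : ∀ w, j a ≤ w → w ≤ j b → w ∈ Set.range j) :
    pc (j a) (j b) = pc a b := by
  apply le_antisymm
  · refine pc_le fun s hs hs' => ?_
    obtain ⟨t, ht1, ht2, ht3⟩ := exists_lift j s (fun i => h _ (by
      rw [← hs]; exact (mem_interval s hs' i).1) (mem_interval s hs' i).2)
    rw [← ht1]
    refine length_le_pc t ?_ ?_
    · exact j.injective (ht2.trans hs)
    · rw [← j.le_iff_le, ht3]; exact hs'
  · refine pc_le fun s hs hs' => ?_
    have := length_le_pc (a := j a) (b := j b) (s.map j j.strictMono) (by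
      rw [LTSeries.head_map, hs]) (by
      rw [LTSeries.last_map]; exact j.monotone hs')
    exact this

/-- An order embedding which is surjective on an interval preserves and reflects catenarity. -/
theorem catAt_iff_of_embedding (j : P ↪o Q) {a b : P} (h : ∀ w, j a ≤ w → w ≤ j b → w ∈ Set.range j) :
    CatAt (j a) (j b) ↔ CatAt a b := by
  unfold CatAt
  rw [pc_eq_of_embedding j h]
  refine and_congr_right fun _ => ⟨fun H s hs hs' hsat => ?_, fun H s hs hs' hsat => ?_⟩
  · have := H (s.map j j.strictMono) (by rw [LTSeries.head_map, hs]) (by rw [LTSeries.last_map, hs']) (by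
      intro i
      have h1 := hsat i
      refine ⟨j.strictMono h1.lt, ?_⟩
      intro w hw1 hw2
      change j (s.toFun _) < w at hw1
      change w < j (s.toFun _) at hw2
      obtain ⟨w', rfl⟩ := h w (by
        rw [← hs]; exact (j.monotone (mem_interval s hs'.le _).1).trans hw1.le) (hw2.le.trans
          (j.monotone (mem_interval s hs'.le _).2))
      exact h1.2 (j.lt_iff_lt.mp hw1) (j.lt_iff_lt.mp hw2))
    exact this
  · have hmem : ∀ i, s i ∈ Set.range j := fun i => h _ (by
      rw [← hs]; exact (mem_interval s hs'.le i).1) (mem_interval s hs'.le i).2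
    choose f hf using hmem
    have hstep : ∀ i : Fin s.length, f (Fin.castSucc i) ⋖ f (Fin.succ i) := by
      intro i
      have h1 := hsat i
      rw [← hf, ← hf] at h1
      refine ⟨j.lt_iff_lt.mp h1.lt, ?_⟩
      intro w hw1 hw2
      exact h1.2 (j.lt_iff_lt.mpr hw1) (j.lt_iff_lt.mpr hw2)
    exact H ⟨s.length, f, fun i => (hstep i).lt⟩ (j.injective ((hf _).trans hs))
      (j.injective ((hf _).trans hs')) hstep

end Embedding

end K417.CatOrder
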