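import Mathlib.Topology.ShrinkingLemma
import Mathlib.Topology.Separation.Regular
import Mathlib.Topology.Compactness.Compact

/-!
# Relatively Hausdorff compact subsets

Separation of compact subsets of a subset `Z` of a space `X` any two distinct points of which have
disjoint open neighbourhoods in `X`.
-/

set_option autoImplicit false
universe u

namespace K417.RelHaus

/-- Any two distinct points of `Z` have disjoint open neighbourhoods in `X`. -/
def RelHausdorff {X : Type u} [TopologicalSpace X] (Z : Set X) : Prop :=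
  ∀ z ∈ Z, ∀ z' ∈ Z, z ≠ z' → ∃ A B : Set X, IsOpen A ∧ IsOpen B ∧ z ∈ A ∧ z' ∈ B ∧ Disjoint A B

variable {X : Type u} [TopologicalSpace X] {Z : Set X}

theorem RelHausdorff.t2Space (hZ : RelHausdorff Z) : T2Space Z := by
  constructor
  intro z z' h
  obtain ⟨A, B, hA, hB, hz, hz', hd⟩ := hZ z z.2 z' z'.2 (fun h' => h (Subtype.ext h'))
  exact ⟨_, _, hA.preimage continuous_subtype_val, hB.preimage continuous_subtype_val, hz, hz',
    hd.preimage _⟩

/-- Disjoint compact subsets of `Z` can be separated. -/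
theorem RelHausdorff.separate (hZ : RelHausdorff Z) {K L : Set X} (hK : IsCompact K) (hL : IsCompact L)
    (hKZ : K ⊆ Z) (hLZ : L ⊆ Z) (hKL : Disjoint K L) :
    ∃ A B : Set X, IsOpen A ∧ IsOpen B ∧ K ⊆ A ∧ L ⊆ B ∧ Disjoint A B := by
  obtain ⟨A, B, hA, hB, hKA, hLB, hAB⟩ := generalized_tube_lemma hK hL
    (n := (closure (Set.diagonal X))ᶜ) isClosed_closure.isOpen_compl (by
      rintro ⟨z, z'⟩ ⟨hz, hz'⟩ hcl
      obtain ⟨A, B, hA, hB, hzA, hzB, hd⟩ := hZ z (hKZ hz) z' (hLZ hz')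
        (fun h => Set.disjoint_left.mp hKL hz (h ▸ hz'))
      rw [mem_closure_iff] at hcl
      obtain ⟨⟨a, b⟩, ⟨h1, h2⟩, h3⟩ := hcl (A ×ˢ B) (hA.prod hB) ⟨hzA, hzB⟩
      have h4 : a = b := h3
      exact Set.disjoint_left.mp hd h1 (h4 ▸ h2))
  refine ⟨A, B, hA, hB, hKA, hLB, ?_⟩
  rw [Set.disjoint_left]
  intro x hxA hxB
  exact hAB (show (x, x) ∈ A ×ˢ B from ⟨hxA, hxB⟩) (subset_closure rfl)

/-- Compact subsets of `Z` contained in `Z` relative to which intersections are compact. -/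
theorem RelHausdorff.inter_isCompact (hZ : RelHausdorff Z) {K L : Set X} (hK : IsCompact K) (hL : IsCompact L)
    (hKZ : K ⊆ Z) (hLZ : L ⊆ Z) : IsCompact (K ∩ L) := by
  haveI := hZ.t2Space
  have h1 : IsCompact ((Subtype.val : Z → X) ⁻¹' K) := by
    rw [Topology.IsEmbedding.subtypeVal.isCompact_iff, Subtype.image_preimage_coe,
      Set.inter_eq_right.mpr hKZ]
    exact hK
  have h2 : IsCompact ((Subtype.val : Z → X) ⁻¹' L) := by
    rw [Topology.IsEmbedding.subtypeVal.isCompact_iff, Subtype.image_preimage_coe,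
      Set.inter_eq_right.mpr hLZ]
    exact hL
  have h3 : IsCompact ((Subtype.val : Z → X) ⁻¹' (K ∩ L)) := by
    rw [Set.preimage_inter]
    exact h1.inter_right h2.isClosed
  rw [Topology.IsEmbedding.subtypeVal.isCompact_iff, Subtype.image_preimage_coe,
      Set.inter_eq_right.mpr (Set.inter_subset_left.trans hKZ)] at h3
  exact h3

/-- Shrinking: compact subsets with intersection inside an open `W` have open neighbourhoods with
intersection inside `W`. -/
theorem RelHausdorff.exists_nhds_iInter_subset (hZ : RelHausdorff Z) (p : ℕ) :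
    ∀ (K : Fin (p + 1) → Set X) (_ : ∀ l, IsCompact (K l)) (_ : ∀ l, K l ⊆ Z) (W : Set X)
      (_ : IsOpen W) (_ : (⋂ l, K l) ⊆ W),
      IsCompact (⋂ l, K l) ∧ ∃ V : Fin (p + 1) → Set X, (∀ l, IsOpen (V l)) ∧ (∀ l, K l ⊆ V l) ∧ (⋂ l, V l) ⊆ W := by
  induction p with
  | zero =>
    intro K hK hKZ W hW hKW
    have h0 : (⋂ l, K l) = K 0 := by
      ext x; simp
    refine ⟨by rw [h0]; exact hK 0, fun _ => W, fun _ => hW, fun l => ?_, ?_⟩
    · rw [h0] at hKW
      have : l = 0 := by omega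
      rw [this]
      exact hKW
    · intro x hx
      exact Set.mem_iInter.mp hx 0
  | succ p ih =>
    intro K hK hKZ W hW hKW
    have hM := (ih (fun l => K l.succ) (fun l => hK _) (fun l => hKZ _) Set.univ isOpen_univ
      (Set.subset_univ _)).1
    set M : Set X := ⋂ l : Fin (p + 1), K l.succ with hMdef
    have hMZ : M ⊆ Z := fun x hx => hKZ _ (Set.mem_iInter.mp hx 0)
    have hsplit : (⋂ l, K l) = K 0 ∩ M := by
      ext x
      simp only [Set.mem_iInter, Set.mem_inter_iff, hMdef]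
      exact ⟨fun h => ⟨h 0, fun i => h _⟩, fun h l => Fin.cases h.1 h.2 l⟩
    refine ⟨by rw [hsplit]; exact hZ.inter_isCompact (hK 0) hM (hKZ 0) hMZ, ?_⟩
    obtain ⟨A, B, hA, hB, hKA, hMB, hAB⟩ := hZ.separate (K := K 0 \ W) (L := M)
      ((hK 0).diff hW) hM (Set.sdiff_subset.trans (hKZ 0)) hMZ (by
        rw [Set.disjoint_left]
        rintro x ⟨hx, hxW⟩ hxM
        exact hxW (hKW (hsplit ▸ ⟨hx, hxM⟩)))
    obtain ⟨-, V, hVo, hKV, hVB⟩ := ih (fun l => K l.succ) (fun l => hK _) (fun l => hKZ _) B hB hMB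
    refine ⟨Fin.cons (A ∪ W) V, ?_, ?_, ?_⟩
    · intro l
      refine Fin.cases ?_ ?_ l
      · exact hA.union hW
      · exact hVo
    · intro l
      refine Fin.cases ?_ ?_ l
      · intro x hx
        by_cases hxW : x ∈ W
        · exact Or.inr hxW
        · exact Or.inl (hKA ⟨hx, hxW⟩)
      · exact hKV
    · intro x hx
      rw [Set.mem_iInter] at hx
      have h0 : x ∈ A ∪ W := hx 0
      have h1 : x ∈ B := hVB (Set.mem_iInter.mpr fun l => hx l.succ)
      rcases h0 with h | h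
      · exact absurd h1 (Set.disjoint_left.mp hAB h)
      · exact h

/-- The common core of the two lifting lemmas. -/
theorem RelHausdorff.core (hZ : RelHausdorff Z) {ι : Type u} (s : Finset ι) (K : ι → Set X)
    (hK : ∀ i, IsCompact (K i)) (hKZ : ∀ i, K i ⊆ Z) (p : ℕ)
    (W : (Fin (p + 1) → ι) → Set X) (hWo : ∀ t, IsOpen (W t))
    (hKW : ∀ t, (⋂ l, K (t l)) ⊆ W t) :
    ∃ V : ι → Set X, (∀ i, IsOpen (V i)) ∧ (∀ i, K i ⊆ V i) ∧
      ∀ t : Fin (p + 1) → ι, (∀ l, t l ∈ s) → (⋂ l, V (t l)) ⊆ W t := by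
  classical
  have h := fun t : Fin (p + 1) → ι => (hZ.exists_nhds_iInter_subset p (fun l => K (t l)) (fun l => hK _)
    (fun l => hKZ _) (W t) (hWo t) (hKW t)).2
  choose N hNo hKN hNW using h
  let V : ι → Set X := fun i => ⋂ (t : Fin (p + 1) → s), ⋂ (l : Fin (p + 1)), ⋂ (_ : (t l : ι) = i),
    N (fun l => (t l : ι)) l
  refine ⟨V, ?_, ?_, ?_⟩
  · intro i
    refine isOpen_iInter_of_finite fun t => isOpen_iInter_of_finite fun l => ?_
    refine isOpen_iInter_of_finite fun _ => hNo _ _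
  · intro i x hx
    simp only [V, Set.mem_iInter]
    rintro t l rfl
    exact hKN _ _ hx
  · intro t ht x hx
    apply hNW t
    rw [Set.mem_iInter] at hx ⊢
    intro l
    have h1 := hx l
    simp only [V, Set.mem_iInter] at h1
    exact h1 (fun l => ⟨t l, ht l⟩) l rfl

end K417.RelHaus
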