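import Groth.Prelude.Def_W4stktopologysheavesDim
import Mathlib.Topology.Sober
import Mathlib.Topology.Spectral.Basic
import Mathlib.Topology.NoetherianSpace

/-!
# The soberification

Basic facts on `PtTop.Sob X`: the opens are the sets `hat U`, the map `toSob` induces a bijection on
opens, universal property, transfer of compactness.
-/

set_option autoImplicit false
universe u

namespace K417.Sobrif

open TopologicalSpace PtTop

variable {X : Type u} [TopologicalSpace X]

/-- The open of the soberification attached to an open. -/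
def hat (U : Set X) : Set (Sob X) := {Z : IrreducibleCloseds X | ((Z : Set X) ∩ U).Nonempty}

theorem mem_hat {U : Set X} {Z : Sob X} : Z ∈ hat U ↔ (((show IrreducibleCloseds X from Z) : Set X) ∩ U).Nonempty :=
  Iff.rfl

theorem isOpen_hat {U : Set X} (hU : IsOpen U) : IsOpen (hat U) :=
  GenerateOpen.basic _ ⟨⟨U, hU⟩, rfl⟩

theorem hat_inter {U V : Set X} (hU : IsOpen U) (hV : IsOpen V) : hat (U ∩ V) = hat U ∩ hat V := by
  ext Z
  constructor
  · rintro ⟨x, hx, hxU, hxV⟩
    exact ⟨⟨x, hx, hxU⟩, ⟨x, hx, hxV⟩⟩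
  · rintro ⟨h1, h2⟩
    exact (show IrreducibleCloseds X from Z).isIrreducible.isPreirreducible U V hU hV h1 h2

theorem hat_sUnion (S : Set (Set X)) : hat (⋃₀ S) = ⋃₀ (hat '' S) := by
  ext Z
  constructor
  · rintro ⟨x, hx, U, hU, hxU⟩
    exact ⟨_, ⟨U, hU, rfl⟩, x, hx, hxU⟩
  · rintro ⟨_, ⟨U, hU, rfl⟩, x, hx, hxU⟩
    exact ⟨x, hx, U, hU, hxU⟩

theorem hat_univ : hat (Set.univ : Set X) = Set.univ := by
  rw [Set.eq_univ_iff_forall]
  intro Z
  obtain ⟨x, hx⟩ := (show IrreducibleCloseds X from Z).isIrreducible.nonempty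
  exact ⟨x, hx, trivial⟩

theorem exists_hat {O : Set (Sob X)} (hO : IsOpen O) : ∃ U : Set X, IsOpen U ∧ hat U = O := by
  induction hO with
  | basic s hs =>
    obtain ⟨U, rfl⟩ := hs
    exact ⟨U, U.2, rfl⟩
  | univ => exact ⟨Set.univ, isOpen_univ, hat_univ⟩
  | inter s t _ _ hs ht =>
    obtain ⟨U, hU, rfl⟩ := hs
    obtain ⟨V, hV, rfl⟩ := ht
    exact ⟨U ∩ V, hU.inter hV, hat_inter hU hV⟩
  | sUnion S _ ih =>
    choose! f hf hf' using ih
    refine ⟨⋃₀ (f '' S), isOpen_sUnion (by rintro _ ⟨s, hs, rfl⟩; exact hf s hs), ?_⟩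
    rw [hat_sUnion, Set.image_image]
    congr 1
    ext O
    constructor
    · rintro ⟨s, hs, rfl⟩; dsimp only; rw [hf' s hs]; exact hs
    · intro hs; exact ⟨O, hs, hf' O hs⟩

theorem preimage_hat {U : Set X} (hU : IsOpen U) : toSob X ⁻¹' hat U = U := by
  ext x
  constructor
  · intro h
    obtain ⟨y, hy, hyU⟩ := (h : (closure {x} ∩ U).Nonempty)
    exact (specializes_iff_mem_closure.mpr hy).mem_open hU hyU
  · intro h
    exact ⟨x, subset_closure rfl, h⟩

theorem continuous_toSob : Continuous (toSob X) := by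
  rw [continuous_def]
  intro O hO
  obtain ⟨U, hU, rfl⟩ := exists_hat hO
  rw [preimage_hat hU]
  exact hU

theorem hat_subset_hat_iff {U V : Set X} (hU : IsOpen U) (hV : IsOpen V) : hat U ⊆ hat V ↔ U ⊆ V := by
  constructor
  · intro h
    rw [← preimage_hat hU, ← preimage_hat hV]
    exact Set.preimage_mono h
  · rintro h Z ⟨x, hx, hxU⟩
    exact ⟨x, hx, h hxU⟩

theorem bijOn_preimage :
    Set.BijOn (fun U' : Set (Sob X) => toSob X ⁻¹' U') {U' | IsOpen U'} {U : Set X | IsOpen U} := by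
  refine ⟨fun O hO => continuous_toSob.isOpen_preimage O hO, ?_, ?_⟩
  · intro O hO O' hO' h
    obtain ⟨U, hU, rfl⟩ := exists_hat hO
    obtain ⟨V, hV, rfl⟩ := exists_hat hO'
    dsimp only at h
    rw [preimage_hat hU, preimage_hat hV] at h
    rw [h]
  · intro U hU
    exact ⟨hat U, isOpen_hat hU, preimage_hat hU⟩

instance t0Space_sob : T0Space (Sob X) := by
  constructor
  intro Z Z' h
  have key : ∀ Z Z' : Sob X, Inseparable Z Z' →
      ((show IrreducibleCloseds X from Z) : Set X) ⊆ (show IrreducibleCloseds X from Z') := by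
    intro Z Z' h x hx
    by_contra hx'
    have h1 : Z ∈ hat (((show IrreducibleCloseds X from Z') : Set X)ᶜ) := ⟨x, hx, hx'⟩
    have h2 : Z' ∈ hat (((show IrreducibleCloseds X from Z') : Set X)ᶜ) :=
      (h.mem_open_iff (isOpen_hat (show IrreducibleCloseds X from Z').isClosed.isOpen_compl)).mp h1
    obtain ⟨y, hy, hy'⟩ := h2
    exact hy' hy
  exact IrreducibleCloseds.ext (subset_antisymm (key Z Z' h) (key Z' Z h.symm))

instance quasiSober_sob : QuasiSober (Sob X) := by
  constructor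
  intro T hT hTc
  obtain ⟨U, hU, hUT⟩ := exists_hat hTc.isOpen_compl
  have hmem : ∀ Z : Sob X, Z ∈ T ↔ ((show IrreducibleCloseds X from Z) : Set X) ⊆ Uᶜ := by
    intro Z
    have h1 : Z ∈ T ↔ Z ∉ hat U := by rw [hUT]; simp
    rw [h1, mem_hat, Set.not_nonempty_iff_eq_empty, ← Set.disjoint_iff_inter_eq_empty,
      Set.subset_compl_iff_disjoint_right]
  have hirr : IsIrreducible Uᶜ := by
    refine ⟨?_, ?_⟩
    · obtain ⟨Z, hZ⟩ := hT.nonempty
      obtain ⟨x, hx⟩ := (show IrreducibleCloseds X from Z).isIrreducible.nonempty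
      exact ⟨x, (hmem Z).mp hZ hx⟩
    · rintro V W hV hW ⟨x, hxU, hxV⟩ ⟨y, hyU, hyW⟩
      have hcl : ∀ x ∈ Uᶜ, toSob X x ∈ T := fun x hx =>
        (hmem _).mpr (closure_minimal (Set.singleton_subset_iff.mpr hx) hU.isClosed_compl)
      obtain ⟨Z, hZT, hZV, hZW⟩ := hT.isPreirreducible (hat V) (hat W) (isOpen_hat hV) (isOpen_hat hW)
        ⟨toSob X x, hcl x hxU, x, subset_closure rfl, hxV⟩ ⟨toSob X y, hcl y hyU, y, subset_closure rfl, hyW⟩
      have : Z ∈ hat (V ∩ W) := by rw [hat_inter hV hW]; exact ⟨hZV, hZW⟩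
      obtain ⟨z, hz, hz'⟩ := this
      exact ⟨z, (hmem Z).mp hZT hz, hz'⟩
  refine ⟨(⟨Uᶜ, hirr, hU.isClosed_compl⟩ : IrreducibleCloseds X), ?_⟩
  apply subset_antisymm
  · refine closure_minimal (Set.singleton_subset_iff.mpr ?_) hTc
    exact (hmem _).mpr subset_rfl
  · intro Z hZ
    rw [mem_closure_iff]
    intro O hO hZO
    obtain ⟨V, hV, rfl⟩ := exists_hat hO
    obtain ⟨x, hx, hxV⟩ := hZO
    exact ⟨_, ⟨x, (hmem Z).mp hZ hx, hxV⟩, rfl⟩

theorem isCompact_hat_iff {U : Set X} (hU : IsOpen U) : IsCompact (hat U) ↔ IsCompact U := by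
  constructor
  · intro h
    refine isCompact_of_finite_subcover fun {ι} O hO hcov => ?_
    obtain ⟨t, ht⟩ := h.elim_finite_subcover (fun i => hat (O i)) (fun i => isOpen_hat (hO i)) (by
      rintro Z ⟨x, hx, hxU⟩
      obtain ⟨i, hi⟩ := Set.mem_iUnion.mp (hcov hxU)
      exact Set.mem_iUnion.mpr ⟨i, x, hx, hi⟩)
    refine ⟨t, fun x hx => ?_⟩
    obtain ⟨i, hi, hxi⟩ := Set.mem_iUnion₂.mp (ht (show toSob X x ∈ hat U from ⟨x, subset_closure rfl, hx⟩))
    refine Set.mem_iUnion₂.mpr ⟨i, hi, ?_⟩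
    rw [← preimage_hat (hO i)]
    exact hxi
  · intro h
    refine isCompact_of_finite_subcover fun {ι} O hO hcov => ?_
    have := fun i => exists_hat (hO i)
    choose V hV hVO using this
    obtain ⟨t, ht⟩ := h.elim_finite_subcover V hV (by
      intro x hx
      obtain ⟨i, hi⟩ := Set.mem_iUnion.mp (hcov (show toSob X x ∈ hat U from ⟨x, subset_closure rfl, hx⟩))
      refine Set.mem_iUnion.mpr ⟨i, ?_⟩
      rw [← hVO] at hi
      rw [← preimage_hat (hV i)]
      exact hi)
    refine ⟨t, ?_⟩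
    rintro Z ⟨x, hx, hxU⟩
    obtain ⟨i, hi, hxi⟩ := Set.mem_iUnion₂.mp (ht hxU)
    refine Set.mem_iUnion₂.mpr ⟨i, hi, ?_⟩
    rw [← hVO]
    exact ⟨x, hx, hxi⟩

theorem compactSpace_sob [CompactSpace X] : CompactSpace (Sob X) := by
  rw [← isCompact_univ_iff, ← hat_univ, isCompact_hat_iff isOpen_univ]
  exact isCompact_univ

theorem prespectralSpace_sob [PrespectralSpace X] : PrespectralSpace (Sob X) := by
  constructor
  refine isTopologicalBasis_of_isOpen_of_nhds (fun O hO => hO.1) ?_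
  intro Z O hZO hO
  obtain ⟨U, hU, rfl⟩ := exists_hat hO
  obtain ⟨x, hx, hxU⟩ := hZO
  obtain ⟨V, ⟨hVo, hVc⟩, hxV, hVU⟩ :=
    (PrespectralSpace.isTopologicalBasis (X := X)).exists_subset_of_mem_open hxU hU
  exact ⟨hat V, ⟨isOpen_hat hVo, (isCompact_hat_iff hVo).mpr hVc⟩, ⟨x, hx, hxV⟩,
    (hat_subset_hat_iff hVo hU).mpr hVU⟩

theorem quasiSeparatedSpace_sob [QuasiSeparatedSpace X] : QuasiSeparatedSpace (Sob X) := by
  constructor
  intro O O' hO hOc hO' hOc'
  obtain ⟨U, hU, rfl⟩ := exists_hat hO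
  obtain ⟨V, hV, rfl⟩ := exists_hat hO'
  rw [← hat_inter hU hV, isCompact_hat_iff (hU.inter hV)]
  exact QuasiSeparatedSpace.inter_isCompact U V hU ((isCompact_hat_iff hU).mp hOc) hV
    ((isCompact_hat_iff hV).mp hOc')

theorem noetherianSpace_sob [NoetherianSpace X] : NoetherianSpace (Sob X) := by
  rw [noetherianSpace_iff_opens]
  intro O
  obtain ⟨U, hU, hUO⟩ := exists_hat O.isOpen
  rw [← hUO, isCompact_hat_iff hU]
  exact NoetherianSpace.isCompact U

/-- Universal property. -/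
theorem exists_factor {Y : Type u} [TopologicalSpace Y] [QuasiSober Y] [T0Space Y] (f : X → Y)
    (hf : Continuous f) : ∃ g : Sob X → Y, Continuous g ∧ g ∘ toSob X = f := by
  have h : ∀ Z : Sob X, ∃ y : Y, IsGenericPoint y (closure (f '' (show IrreducibleCloseds X from Z))) :=
    fun Z => QuasiSober.sober ((show IrreducibleCloseds X from Z).isIrreducible.image f hf.continuousOn).closure
      isClosed_closure
  choose g hg using h
  refine ⟨g, ?_, ?_⟩
  · rw [continuous_def]
    intro V hV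
    have : g ⁻¹' V = hat (f ⁻¹' V) := by
      ext Z
      rw [Set.mem_preimage, (hg Z).mem_open_set_iff hV, mem_hat]
      constructor
      · rintro ⟨y, hy1, hy2⟩
        obtain ⟨_, hz1, x, hx, rfl⟩ := mem_closure_iff.mp hy1 V hV hy2
        exact ⟨x, hx, hz1⟩
      · rintro ⟨x, hx, hxV⟩
        exact ⟨f x, subset_closure ⟨x, hx, rfl⟩, hxV⟩
    rw [this]
    exact isOpen_hat (hV.preimage hf)
  · funext x
    refine (hg (toSob X x)).eq ?_
    change closure {f x} = closure (f '' closure {x})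
    apply subset_antisymm
    · exact closure_mono (Set.singleton_subset_iff.mpr ⟨x, subset_closure rfl, rfl⟩)
    · refine closure_minimal ((image_closure_subset_closure_image hf).trans ?_) isClosed_closure
      rw [Set.image_singleton]

end K417.Sobrif
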